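/-!
Relators for twelve letters: six generators of the centralizer of a four-cycle involution in the
alternating group of degree eight, two three-cycles with inverses and two involutions.
-/

set_option autoImplicit false

namespace CfsgLib.Alt12Inv.Eight

/-- The relators. The first 29 after the empty one mix the letters, the others involve the six. -/
def rels : List (List Nat) :=
  [[],
   [0, 0],
   [1, 1],
   [2, 2],
   [3, 3],
   [4, 4],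
   [5, 5],
   [6, 7],
   [7, 6],
   [8, 9],
   [9, 8],
   [10, 10],
   [11, 11],
   [6, 6, 6],
   [8, 8, 8],
   [6, 8, 7, 9],
   [6, 3, 7, 3],
   [8, 1, 9, 1],
   [8, 0, 9, 0],
   [6, 1, 7, 0],
   [6, 0, 7, 1, 0],
   [4, 6, 4, 6],
   [4, 8, 4, 8],
   [5, 6, 5, 9],
   [5, 8, 5, 7],
   [8, 3, 9, 5, 0, 5],
   [10, 6, 8, 4, 9, 7],
   [11, 7, 8, 4, 9, 6],
   [2, 10, 2, 10, 2, 10],
   [2, 11, 2, 11, 2, 11],
   [0, 1, 0, 1],
   [0, 2, 4, 2],
   [0, 3, 0, 3],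
   [0, 4, 0, 4],
   [1, 3, 1, 3],
   [1, 5, 3, 5],
   [4, 5, 4, 5],
   [0, 1, 4, 1, 4],
   [1, 2, 5, 2, 3],
   [0, 1, 0, 5, 3, 5],
   [0, 1, 2, 4, 2, 1],
   [0, 1, 3, 0, 3, 1],
   [0, 2, 0, 2, 0, 4],
   [0, 2, 5, 4, 5, 2],
   [0, 3, 0, 5, 1, 5],
   [0, 3, 2, 4, 2, 3],
   [0, 3, 4, 0, 4, 3],
   [0, 4, 0, 5, 4, 5],
   [1, 2, 1, 2, 1, 2],
   [1, 3, 5, 3, 5, 3],
   [2, 3, 2, 3, 2, 3],
   [10, 10],
   [11, 11],
   [5, 10, 5, 10]]

/-- The letters of the subgroup. -/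
def subs : List (List Nat) := [[0], [1], [2], [3], [4], [5]]

/-- Inversion of letters. -/
def iv (l : Nat) : Nat := [0, 1, 2, 3, 4, 5, 7, 6, 9, 8, 10, 11].getD l l

end CfsgLib.Alt12Inv.Eight
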