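import Cfsg.Agent.Coset.Table
import Cfsg.Agent.Alt12Inv.Eight.Rels
import Cfsg.Agent.Alt12Inv.Eight.EightData

/-! The checks of the coset certificate. -/

set_option autoImplicit false
set_option maxRecDepth 100000
set_option Elab.async false

namespace CfsgLib.Alt12Inv.Eight

open CfsgLib.Coset

theorem hR : checkRules rels subs R = true := by decide +kernel
theorem hdefs : checkDefs E 12 10 961 = true := by decide +kernel
theorem hsteps : checkChunks E iv R 12 6 961 61 C = true := by decide +kernel
theorem htable : checkTable E iv (961 + chunk * 61) 105 12 7 4 Rep Ref Tb = true := by decide +kernel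

theorem iv_spec : ∀ l, l < 12 → iv l < 12 ∧ iv (iv l) = l := by decide

variable {G : Type*} [Group G] {L : List G} {H : Subgroup G}

theorem table (hL : L.length = 12) (hiv : ∀ l < 12, fl L (iv l) = (fl L l)⁻¹)
    (hrel : ∀ w ∈ rels, ev L w = 1) (hsub : ∀ w ∈ subs, ev L w ∈ H) : TableOK L H E iv 105 Rep Tb := by
  have hiv' : ∀ x, fl L (iv x) = (fl L x)⁻¹ := fun x => by
    rcases lt_or_ge x 12 with h | h
    · exact hiv x h
    · have e : iv x = x := List.getD_eq_default _ _ (by simpa using h)
      rw [e, fl_of_le L (by omega), inv_one]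
  exact tableOK_of_check hiv' hR (hL.symm ▸ hdefs) (hL.symm ▸ hsteps) (hL.symm ▸ htable) hrel hsub

end CfsgLib.Alt12Inv.Eight
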